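import Cfsg.Agent.Lib.Helper6.TCD.HNL.FKP0
import Cfsg.Agent.Lib.Helper6.TCD.HNL.FKP1
import Cfsg.Agent.Lib.Helper6.TCD.HNL.FKP2
import Cfsg.Agent.Lib.Helper6.TCD.HNL.FKP3
import Cfsg.Agent.Lib.Helper6.TCD.HNL.FKP4
import Cfsg.Agent.Lib.Helper6.TCD.HNL.FKP5
set_option autoImplicit false
namespace Cfsg.Agent.Lib.Helper6.TCD.HNL
noncomputable def FKT0 (i : Nat) : Nat := Bool.rec (FKP0N62 i) (FKP1N62 i) (Nat.ble 16384 i)
noncomputable def FKT1 (i : Nat) : Nat := Bool.rec (FKT0 i) (FKP2N62 i) (Nat.ble 32768 i)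
noncomputable def FKT2 (i : Nat) : Nat := Bool.rec (FKP3N62 i) (FKP4N62 i) (Nat.ble 65536 i)
noncomputable def FKT3 (i : Nat) : Nat := Bool.rec (FKT2 i) (FKP5N4 i) (Nat.ble 81920 i)
noncomputable def FK (i : Nat) : Nat := Bool.rec (FKT1 i) (FKT3 i) (Nat.ble 49152 i)
end Cfsg.Agent.Lib.Helper6.TCD.HNL
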