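import Cfsg.Agent.Lib.Helper6.TCD.HNL.FLP0
import Cfsg.Agent.Lib.Helper6.TCD.HNL.FLP1
import Cfsg.Agent.Lib.Helper6.TCD.HNL.FLP2
import Cfsg.Agent.Lib.Helper6.TCD.HNL.FLP3
import Cfsg.Agent.Lib.Helper6.TCD.HNL.FLP4
import Cfsg.Agent.Lib.Helper6.TCD.HNL.FLP5
set_option autoImplicit false
namespace Cfsg.Agent.Lib.Helper6.TCD.HNL
noncomputable def FLT0 (i : Nat) : Nat := Bool.rec (FLP0N62 i) (FLP1N62 i) (Nat.ble 16384 i)
noncomputable def FLT1 (i : Nat) : Nat := Bool.rec (FLT0 i) (FLP2N62 i) (Nat.ble 32768 i)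
noncomputable def FLT2 (i : Nat) : Nat := Bool.rec (FLP3N62 i) (FLP4N62 i) (Nat.ble 65536 i)
noncomputable def FLT3 (i : Nat) : Nat := Bool.rec (FLT2 i) (FLP5N4 i) (Nat.ble 81920 i)
noncomputable def FL (i : Nat) : Nat := Bool.rec (FLT1 i) (FLT3 i) (Nat.ble 49152 i)
end Cfsg.Agent.Lib.Helper6.TCD.HNL
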