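import Cfsg.Agent.Lib.Helper6.TCD.HNL.FSaP0
import Cfsg.Agent.Lib.Helper6.TCD.HNL.FSaP1
import Cfsg.Agent.Lib.Helper6.TCD.HNL.FSaP2
import Cfsg.Agent.Lib.Helper6.TCD.HNL.FSaP3
import Cfsg.Agent.Lib.Helper6.TCD.HNL.FSaP4
import Cfsg.Agent.Lib.Helper6.TCD.HNL.FSaP5
import Cfsg.Agent.Lib.Helper6.TCD.HNL.FSaP6
import Cfsg.Agent.Lib.Helper6.TCD.HNL.FSaP7
import Cfsg.Agent.Lib.Helper6.TCD.HNL.FSaP8
import Cfsg.Agent.Lib.Helper6.TCD.HNL.FSaP9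
import Cfsg.Agent.Lib.Helper6.TCD.HNL.FSaP10
set_option autoImplicit false
namespace Cfsg.Agent.Lib.Helper6.TCD.HNL
noncomputable def FSaT0 (i : Nat) : Nat := Bool.rec (FSaP0N62 i) (FSaP1N62 i) (Nat.ble 8192 i)
noncomputable def FSaT1 (i : Nat) : Nat := Bool.rec (FSaT0 i) (FSaP2N62 i) (Nat.ble 16384 i)
noncomputable def FSaT2 (i : Nat) : Nat := Bool.rec (FSaP3N62 i) (FSaP4N62 i) (Nat.ble 32768 i)
noncomputable def FSaT3 (i : Nat) : Nat := Bool.rec (FSaT2 i) (FSaP5N62 i) (Nat.ble 40960 i)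
noncomputable def FSaT4 (i : Nat) : Nat := Bool.rec (FSaT1 i) (FSaT3 i) (Nat.ble 24576 i)
noncomputable def FSaT5 (i : Nat) : Nat := Bool.rec (FSaP6N62 i) (FSaP7N62 i) (Nat.ble 57344 i)
noncomputable def FSaT6 (i : Nat) : Nat := Bool.rec (FSaT5 i) (FSaP8N62 i) (Nat.ble 65536 i)
noncomputable def FSaT7 (i : Nat) : Nat := Bool.rec (FSaP9N62 i) (FSaP10N9 i) (Nat.ble 81920 i)
noncomputable def FSaT8 (i : Nat) : Nat := Bool.rec (FSaT6 i) (FSaT7 i) (Nat.ble 73728 i)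
noncomputable def FSa (i : Nat) : Nat := Bool.rec (FSaT4 i) (FSaT8 i) (Nat.ble 49152 i)
end Cfsg.Agent.Lib.Helper6.TCD.HNL
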