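import Cfsg.Agent.Lib.Helper6.TCD.HNL.FSbP0
import Cfsg.Agent.Lib.Helper6.TCD.HNL.FSbP1
import Cfsg.Agent.Lib.Helper6.TCD.HNL.FSbP2
import Cfsg.Agent.Lib.Helper6.TCD.HNL.FSbP3
import Cfsg.Agent.Lib.Helper6.TCD.HNL.FSbP4
set_option autoImplicit false
namespace Cfsg.Agent.Lib.Helper6.TCD.HNL
noncomputable def FSbT0 (i : Nat) : Nat := Bool.rec (FSbP0N62 i) (FSbP1N62 i) (Nat.ble 1024 i)
noncomputable def FSbT1 (i : Nat) : Nat := Bool.rec (FSbT0 i) (FSbP2N62 i) (Nat.ble 2048 i)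
noncomputable def FSbT2 (i : Nat) : Nat := Bool.rec (FSbP3N62 i) (FSbP4N17 i) (Nat.ble 4096 i)
noncomputable def FSb (i : Nat) : Nat := Bool.rec (FSbT1 i) (FSbT2 i) (Nat.ble 3072 i)
end Cfsg.Agent.Lib.Helper6.TCD.HNL
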