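import Cfsg.Agent.Lib.Helper6.TCD.HNL.FTP0
import Cfsg.Agent.Lib.Helper6.TCD.HNL.FTP1
import Cfsg.Agent.Lib.Helper6.TCD.HNL.FTP2
set_option autoImplicit false
namespace Cfsg.Agent.Lib.Helper6.TCD.HNL
noncomputable def FTT0 (i : Nat) : Nat := Bool.rec (FTP0N62 i) (FTP1N62 i) (Nat.ble 32768 i)
noncomputable def FT (i : Nat) : Nat := Bool.rec (FTT0 i) (FTP2N33 i) (Nat.ble 65536 i)
end Cfsg.Agent.Lib.Helper6.TCD.HNL
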