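set_option autoImplicit false
namespace Cfsg.Agent.Lib.Helper6.TCD.HNL
noncomputable def WI (i : Nat) : Nat := Nat.land (Nat.shiftRight 0x80014040e201008088282c0024201304058804c0004061002081104c08144e13010700030ac2414100305810140c0e000905030684014040c07060300870003a0806020581810a42400062c0980810100c0c1101040082008081c100505028182c205013040100828043c0604090802028040c4013000700048a82418102d09018083c2204020303800000404000a01020002404040406000f0001000020a02000190048c024000f30091304810040e100107 (Nat.mul 17 (Nat.land i 127))) 131071
end Cfsg.Agent.Lib.Helper6.TCD.HNL
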