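import Cfsg.Agent.Lib.Helper6.TCD.HNL.NC
import Cfsg.Agent.Lib.Helper6.TCD.HNL.FT
import Cfsg.Agent.Lib.Helper6.TCD.HNL.FL
import Cfsg.Agent.Lib.Helper6.TCD.HNL.FK
import Cfsg.Agent.Lib.Helper6.TCD.HNL.FJ
import Cfsg.Agent.Lib.Helper6.TCD.HNL.FSa
import Cfsg.Agent.Lib.Helper6.TCD.HNL.FSb
import Cfsg.Agent.Lib.Helper6.TCD.HNL.WD
import Cfsg.Agent.Lib.Helper6.TCD.HNL.WI
set_option autoImplicit false
namespace Cfsg.Agent.Lib.Helper6.TCD.HNL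
def nn : Nat := 49570
def nf : Nat := 83325
def nw : Nat := 84
def finalF : Nat := 83324
noncomputable def FS (f : Nat) : Nat := (fun e => Bool.rec e (FSb (Nat.shiftRight e 8)) (Nat.beq (Nat.land e 255) 255)) (FSa f)
end Cfsg.Agent.Lib.Helper6.TCD.HNL
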