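import Cfsg.Agent.Lib.Helper6.LTC1
import Cfsg.Agent.Lib.Helper6.TCD.HNP1sa.Par
import Cfsg.Agent.Lib.Helper6.TCD.HNL.Par
set_option autoImplicit false
set_option maxRecDepth 1000000
set_option Elab.async false
open Cfsg.Agent.Lib.Helper6.TC Cfsg.Agent.Lib.Helper6.LTC
namespace Cfsg.Agent.Lib.Helper6.TCD.HNL
theorem chkF8 : allR (chkFact NC FT FL FK FS FJ WD Cfsg.Agent.Lib.Helper6.TCD.HNP1sa.px 7 4 84 90448641 0 309 1) 59510 2795 = true := by decide +kernel
theorem chkF9 : allR (chkFact NC FT FL FK FS FJ WD Cfsg.Agent.Lib.Helper6.TCD.HNP1sa.px 7 4 84 90448641 0 309 1) 62305 1333 = true := by decide +kernel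
theorem chkF10 : allR (chkFact NC FT FL FK FS FJ WD Cfsg.Agent.Lib.Helper6.TCD.HNP1sa.px 7 4 84 90448641 0 309 1) 63638 1627 = true := by decide +kernel
theorem chkF11 : allR (chkFact NC FT FL FK FS FJ WD Cfsg.Agent.Lib.Helper6.TCD.HNP1sa.px 7 4 84 90448641 0 309 1) 65265 1751 = true := by decide +kernel
end Cfsg.Agent.Lib.Helper6.TCD.HNL
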