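import Cfsg.Agent.Lib.Helper6.LTC1
import Cfsg.Agent.Lib.Helper6.TCD.HNP1sa.Par
import Cfsg.Agent.Lib.Helper6.TCD.HNL.Par
set_option autoImplicit false
set_option maxRecDepth 1000000
set_option Elab.async false
open Cfsg.Agent.Lib.Helper6.TC Cfsg.Agent.Lib.Helper6.LTC
namespace Cfsg.Agent.Lib.Helper6.TCD.HNL
theorem chkF12 : allR (chkFact NC FT FL FK FS FJ WD Cfsg.Agent.Lib.Helper6.TCD.HNP1sa.px 7 4 84 90448641 0 309 1) 67016 2159 = true := by decide +kernel
theorem chkF13 : allR (chkFact NC FT FL FK FS FJ WD Cfsg.Agent.Lib.Helper6.TCD.HNP1sa.px 7 4 84 90448641 0 309 1) 69175 2029 = true := by decide +kernel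
theorem chkF14 : allR (chkFact NC FT FL FK FS FJ WD Cfsg.Agent.Lib.Helper6.TCD.HNP1sa.px 7 4 84 90448641 0 309 1) 71204 1629 = true := by decide +kernel
theorem chkF15 : allR (chkFact NC FT FL FK FS FJ WD Cfsg.Agent.Lib.Helper6.TCD.HNP1sa.px 7 4 84 90448641 0 309 1) 72833 2042 = true := by decide +kernel
end Cfsg.Agent.Lib.Helper6.TCD.HNL
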