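import Cfsg.Agent.Lib.Helper6.TCD.HNL.CF0
import Cfsg.Agent.Lib.Helper6.TCD.HNL.CF1
import Cfsg.Agent.Lib.Helper6.TCD.HNL.CF2
import Cfsg.Agent.Lib.Helper6.TCD.HNL.CF3
import Cfsg.Agent.Lib.Helper6.TCD.HNL.CF4
import Cfsg.Agent.Lib.Helper6.TCD.HNL.CF5
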